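import Mathlib
import Cfsg.Agent.H997.Rg.Lin

/-!
# Centralizers of elements of order `r`, `ord_r(-q) = dim V`, in unitary groups (helper899; S3691, piece `ucent`)
-/

set_option autoImplicit false
set_option linter.unusedSectionVars false
set_option linter.unusedVariables false

open Subgroup Cfsg Cfsg.Agent.H997.Rg
open scoped Pointwise

namespace Cfsg.Agent.H899.Rg

open Polynomial

section cyc

variable {F V : Type*} [Field F] [AddCommGroup V] [Module F V]

theorem exists_cyc [FiniteDimensional F V] (x : Module.End F V)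
    (hx : Module.finrank F V ≤ (minpoly F x).natDegree) :
    ∃ v : V, ∀ w : V, ∃ P : F[X], aeval x P v = w := by
  obtain ⟨v₀, hv₀⟩ := Module.exists_ker_toSpanSingleton_eq_annihilator F[X] (Module.AEval' x)
  obtain ⟨v, hv⟩ : ∃ v : V, ∀ p : F[X], aeval x p v = 0 → minpoly F x ∣ p := by
    refine ⟨(Module.AEval'.of x).symm v₀, fun p hp => ?_⟩
    have h1 : p • v₀ = 0 := by
      obtain ⟨w, rfl⟩ := (Module.AEval'.of x).surjective v₀
      rw [LinearEquiv.symm_apply_apply] at hp
      rw [← Module.AEval.of_aeval_smul]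
      have : (aeval x p • w : V) = aeval x p w := rfl
      rw [this, hp, map_zero]
    have h2 : p ∈ LinearMap.ker (LinearMap.toSpanSingleton F[X] (Module.AEval' x) v₀) := by
      rw [LinearMap.mem_ker, LinearMap.toSpanSingleton_apply, h1]
    rw [hv₀, ← span_minpoly_eq_annihilator, Ideal.mem_span_singleton] at h2
    exact h2
  refine ⟨v, fun w => ?_⟩
  let Φ : Polynomial.degreeLT F (Module.finrank F V) →ₗ[F] V :=
    (LinearMap.applyₗ v) ∘ₗ (aeval x).toLinearMap ∘ₗ (Polynomial.degreeLT F (Module.finrank F V)).subtype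
  have hΦ : ∀ a : Polynomial.degreeLT F (Module.finrank F V), Φ a = aeval x (a : F[X]) v := fun a => rfl
  have hinj : Function.Injective Φ := by
    rw [injective_iff_map_eq_zero]
    intro a ha
    rw [hΦ] at ha
    apply Subtype.ext
    have h1 := Polynomial.mem_degreeLT.1 a.2
    refine eq_zero_of_dvd_of_degree_lt (hv _ ha) (h1.trans_le ?_)
    rw [Polynomial.degree_eq_natDegree (minpoly.ne_zero (Algebra.IsIntegral.isIntegral x))]
    exact_mod_cast hx
  have hfr : Module.finrank F (LinearMap.range Φ) = Module.finrank F V := by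
    rw [LinearMap.finrank_range_of_inj hinj,
      (Polynomial.degreeLTEquiv F (Module.finrank F V)).finrank_eq, Module.finrank_fin_fun]
  have htop : LinearMap.range Φ = ⊤ := Submodule.eq_top_of_finrank_eq hfr
  have hw : w ∈ LinearMap.range Φ := by rw [htop]; trivial
  obtain ⟨a, ha⟩ := hw
  exact ⟨a, ha⟩

theorem aeval_comm {a x : Module.End F V} (ha : Commute a x) (P : F[X]) (v : V) :
    a (aeval x P v) = aeval x P (a v) := by
  have h : Commute a (aeval x P) := by
    induction P using Polynomial.induction_on' with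
    | add p q hp hq => rw [map_add]; exact hp.add_right hq
    | monomial n c =>
      rw [aeval_monomial]
      exact (show Commute a (algebraMap F (Module.End F V) c) from (Algebra.commutes c a).symm).mul_right (ha.pow_right n)
  exact LinearMap.congr_fun h.eq v

/-- operators commuting with a cyclic operator are polynomials in it -/
theorem exists_poly {x a : Module.End F V} {v : V} (hv : ∀ w : V, ∃ P : F[X], aeval x P v = w)
    (ha : Commute a x) : ∃ P : F[X], a = aeval x P := by
  obtain ⟨P, hP⟩ := hv (a v)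
  refine ⟨P, LinearMap.ext fun w => ?_⟩
  obtain ⟨R, rfl⟩ := hv w
  rw [aeval_comm ha, ← hP, ← Module.End.mul_apply, ← Module.End.mul_apply, ← map_mul, ← map_mul, mul_comm]

end cyc

theorem ucent {F V K : Type*} [Field F] [Finite F] [AddCommGroup V] [Module F V] [FiniteDimensional F V]
    [Nontrivial V] [Group K] [Finite K] {p r q : ℕ} [CharP F p] (hp : p.Prime) (hF : Nat.card F = q ^ 2)
    (ρ : K →* Module.End F V) (hinj : Function.Injective ρ) (h : Fpf p ρ) (B : V → V → F)
    (hBl : ∀ u v w, B (u + v) w = B u w + B v w) (hBr : ∀ u v w, B u (v + w) = B u v + B u w)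
    (hBsl : ∀ (c : F) v w, B (c • v) w = c * B v w) (hBsr : ∀ (c : F) v w, B v (c • w) = c ^ q * B v w)
    (hBn : ∀ v, (∀ w, B v w = 0) → v = 0) (hBK : ∀ g v w, B (ρ g v) (ρ g w) = B v w) {y : K}
    (hr : r.Prime) (hrp : r ≠ p) (hy : orderOf y = r) (hord : orderOf (-(q : ZMod r)) = Module.finrank F V) :
    ¬ p ∣ Nat.card (Subgroup.centralizer ({y} : Set K)) ∧ nc y ∣ Module.finrank F V ∧
      ∀ x w : K, Commute y x → Commute y w → Commute x w := by
  classical
  have := Fact.mk hr
  have := Fact.mk hp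
  set κ := normalizerMonoidHom (zpowers y) with hκ
  have hyr : y ^ r = 1 := by rw [← hy]; exact pow_orderOf_eq_one y
  set E := AlgebraicClosure F with hE
  set m := minpoly F (ρ y) with hm
  have hint : IsIntegral F (ρ y) := Algebra.IsIntegral.isIntegral _
  have hdeg : m.degree ≠ 0 := (minpoly.degree_pos hint).ne'
  have hmX : m ∣ Polynomial.X ^ r - 1 := by
    apply minpoly.dvd
    rw [map_sub, map_pow, Polynomial.aeval_X, map_one, ← map_pow, hyr, map_one, sub_self]
  obtain ⟨ζ, hζ⟩ := IsAlgClosed.exists_aeval_eq_zero E m hdeg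
  have hζr : ζ ^ r = 1 := by
    have h2 := Polynomial.aeval_eq_zero_of_dvd_aeval_eq_zero hmX hζ
    rw [map_sub, map_pow, Polynomial.aeval_X, map_one, sub_eq_zero] at h2
    exact h2
  have hζ1 : ζ ≠ 1 := by
    rintro rfl
    have h1 : m.IsRoot 1 := by
      rw [show (1 : E) = algebraMap F E 1 by rw [map_one], Polynomial.aeval_algebraMap_apply] at hζ
      have h2 := (map_eq_zero (algebraMap F E)).1 hζ
      rw [Polynomial.IsRoot.def]
      simpa using h2
    have h2 := (Module.End.hasEigenvalue_iff_isRoot).2 h1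
    obtain ⟨v, hv⟩ := h2.exists_hasEigenvector
    apply hv.2
    refine h y (by rw [hy]; exact hr) (by rw [hy]; exact hrp) v ?_
    have := hv.apply_eq_smul
    rwa [one_smul] at this
  have hζo : orderOf ζ = r := orderOf_eq_prime hζr hζ1
  have hζ0 : ζ ≠ 0 := by
    rintro h0
    rw [h0, zero_pow hr.ne_zero] at hζr
    exact zero_ne_one hζr
  have hζpow : ∀ a b : ℕ, ζ ^ a = ζ ^ b ↔ a ≡ b [MOD r] := by
    intro a b
    have ho' : orderOf (Units.mk0 ζ hζ0) = r := by
      rw [← hζo, ← orderOf_units, Units.val_mk0]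
    rw [← ho', ← pow_eq_pow_iff_modEq, Units.ext_iff, Units.val_pow_eq_pow_val, Units.val_pow_eq_pow_val, Units.val_mk0]
  have hypow : ∀ a b : ℕ, y ^ a = y ^ b ↔ a ≡ b [MOD r] := by
    intro a b; rw [pow_eq_pow_iff_modEq, hy]
  have hex : ∀ φ : MulAut (zpowers y), ∃ k : ℕ, ((φ ⟨y, Subgroup.mem_zpowers y⟩ : zpowers y) : K) = y ^ k := by
    intro φ
    have hf : IsOfFinOrder y := isOfFinOrder_of_finite y
    obtain ⟨k, hk⟩ := hf.mem_powers_iff_mem_zpowers.2 (φ ⟨y, Subgroup.mem_zpowers y⟩).2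
    exact ⟨k, hk.symm⟩
  choose k hk using hex
  have hk' : ∀ φ : MulAut (zpowers y), φ ⟨y, Subgroup.mem_zpowers y⟩ = (⟨y, Subgroup.mem_zpowers y⟩ : zpowers y) ^ k φ :=
    fun φ => Subtype.ext (hk φ)
  let θ0 : MulAut (zpowers y) →* ZMod r :=
    { toFun := fun φ => (k φ : ZMod r)
      map_one' := by
        rw [← Nat.cast_one, ZMod.natCast_eq_natCast_iff, ← hypow, ← hk, pow_one]; rfl
      map_mul' := fun φ ψ => by
        rw [← Nat.cast_mul, ZMod.natCast_eq_natCast_iff, ← hypow, ← hk, MulAut.mul_apply, hk' ψ, map_pow, hk' φ,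
          ← pow_mul]
        rfl }
  let θ : MulAut (zpowers y) →* (ZMod r)ˣ := θ0.toHomUnits
  have hθv : ∀ φ, ((θ φ : (ZMod r)ˣ) : ZMod r) = (k φ : ZMod r) := fun φ => rfl
  have hθi : Function.Injective θ := by
    intro φ ψ hφψ
    have h1 : (k φ : ZMod r) = (k ψ : ZMod r) := by rw [← hθv, ← hθv, hφψ]
    rw [ZMod.natCast_eq_natCast_iff, ← hypow, ← hk, ← hk] at h1
    have h2 := Subtype.ext h1
    ext ⟨x, hx⟩
    obtain ⟨i, rfl⟩ := mem_zpowers_iff.1 hx
    have h3 : (⟨y ^ i, hx⟩ : zpowers y) = (⟨y, Subgroup.mem_zpowers y⟩ : zpowers y) ^ i := rfl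
    rw [h3, map_zpow, map_zpow, h2]
  set R : Subgroup (ZMod r)ˣ := κ.range.map θ with hR
  have hRc : Nat.card R = nc y := by rw [hR, Subgroup.card_map_of_injective hθi]; rfl
  let J : Set (ZMod r)ˣ := {u | Polynomial.aeval (ζ ^ (u : ZMod r).val) m = 0}
  have hJmem : ∀ (u : (ZMod r)ˣ) (n : ℕ), (n : ZMod r) = (u : ZMod r) → (u ∈ J ↔ Polynomial.aeval (ζ ^ n) m = 0) := by
    intro u n hn
    have h1 : ζ ^ (u : ZMod r).val = ζ ^ n := by
      rw [hζpow, ← ZMod.natCast_eq_natCast_iff, ZMod.natCast_zmod_val, hn]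
    change Polynomial.aeval (ζ ^ (u : ZMod r).val) m = 0 ↔ _
    rw [h1]
  have hJR : ∀ u ∈ J, ∀ w ∈ R, u * w ∈ J := by
    rintro u hu _ ⟨_, ⟨⟨g, hgN⟩, rfl⟩, rfl⟩
    set φ : MulAut (zpowers y) := κ ⟨g, hgN⟩ with hφ
    rw [hJmem _ ((u : ZMod r).val * k φ) (by
      rw [Nat.cast_mul, ZMod.natCast_zmod_val, Units.val_mul]
      rfl)]
    have h1 := hk φ
    have h2 : ((φ ⟨y, Subgroup.mem_zpowers y⟩ : zpowers y) : K) = g * y * g⁻¹ := rfl
    rw [h2] at h1
    have h3 : ρ g * ρ y = ρ (y ^ k φ) * ρ g := by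
      rw [← h1, ← map_mul, ← map_mul]
      congr 1; group
    have h4 := semiconj_aeval h3 m
    rw [minpoly.aeval, mul_zero] at h4
    have h5 : Polynomial.aeval (ρ (y ^ k φ)) m = 0 := by
      have h6 := congrArg (fun z => z * ρ g⁻¹) h4.symm
      simp only [zero_mul] at h6
      rwa [mul_assoc, ← map_mul, mul_inv_cancel, map_one, mul_one] at h6
    have h6 : m ∣ m.comp (Polynomial.X ^ k φ) := by
      apply minpoly.dvd
      rw [Polynomial.aeval_comp, map_pow, Polynomial.aeval_X, ← map_pow]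
      exact h5
    have h7 := Polynomial.aeval_eq_zero_of_dvd_aeval_eq_zero h6 hu
    rw [Polynomial.aeval_comp, map_pow, Polynomial.aeval_X, ← pow_mul] at h7
    exact h7
  -- `q` is a power of `p`
  have hFt := Fintype.ofFinite F
  obtain ⟨k0, hk0⟩ : ∃ k0 : ℕ, q = p ^ k0 := by
    obtain ⟨n, _, hn⟩ := FiniteField.card F p
    rw [Nat.card_eq_fintype_card, hn] at hF
    have h1 : q ∣ p ^ (n : ℕ) := by rw [hF]; exact dvd_pow_self q two_ne_zero
    obtain ⟨j, _, hj⟩ := (Nat.dvd_prime_pow hp).1 h1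
    exact ⟨j, hj⟩
  have hqr : Nat.Coprime q r := by
    rw [hk0]
    exact Nat.Coprime.pow_left _ ((Nat.coprime_primes hp hr).2 hrp.symm)
  have hEch : CharP E p := charP_of_injective_algebraMap (algebraMap F E).injective p
  set σ : F →+* F := iterateFrobenius F p k0 with hσ
  have hσa : ∀ c : F, σ c = c ^ q := fun c => by rw [hσ, iterateFrobenius_def, ← hk0]
  set τ : E →+* E := iterateFrobenius E p k0 with hτ
  have hτa : ∀ c : E, τ c = c ^ q := fun c => by rw [hτ, iterateFrobenius_def, ← hk0]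
  have hσσ : σ.comp σ = RingHom.id F := by
    ext c
    rw [RingHom.comp_apply, hσa, hσa, ← pow_mul, ← pow_two, ← hF, RingHom.id_apply, Nat.card_eq_fintype_card]
    exact FiniteField.pow_card c
  -- the adjoint
  have hadj : ∀ (n : ℕ) (v w : V), B v (ρ (y ^ n) w) = B (ρ (y⁻¹ ^ n) v) w := by
    intro n v w
    rw [← hBK (y ^ n) (ρ (y⁻¹ ^ n) v) w, ← Module.End.mul_apply, ← map_mul, inv_pow, mul_inv_cancel, map_one,
      Module.End.one_apply]
  have hB0l : ∀ w, B 0 w = 0 := by
    intro w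
    have := hBsl 0 0 w
    rwa [zero_smul, zero_mul] at this
  have hB0r : ∀ v, B v 0 = 0 := by
    intro v
    have := hBr v 0 0
    rw [add_zero] at this
    exact left_eq_add.1 this
  have hadjp : ∀ (f : F[X]) (v w : V), B v (aeval (ρ y) f w) = B (aeval (ρ y⁻¹) (f.map σ) v) w := by
    intro f
    induction f using Polynomial.induction_on' with
    | add f g hf hg =>
      intro v w
      rw [Polynomial.map_add, map_add, map_add, LinearMap.add_apply, LinearMap.add_apply, hBl, hBr, hf, hg]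
    | monomial n c =>
      intro v w
      rw [Polynomial.map_monomial, aeval_monomial, aeval_monomial, Module.End.mul_apply, Module.End.mul_apply,
        Module.algebraMap_end_apply, Module.algebraMap_end_apply, hBsr, hBsl, hσa, ← map_pow, ← map_pow, hadj]
  have hm' : aeval (ρ y⁻¹) (m.map σ) = 0 := by
    ext v
    rw [LinearMap.zero_apply]
    apply hBn
    intro w
    rw [← hadjp, hm, minpoly.aeval, LinearMap.zero_apply, hB0r]
  have hdvd : m ∣ (m.map σ).comp (Polynomial.X ^ (r - 1)) := by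
    apply minpoly.dvd
    have h1 : y ^ (r - 1) = y⁻¹ := by
      rw [eq_inv_iff_mul_eq_one, ← pow_succ, Nat.sub_add_cancel hr.one_le, hyr]
    rw [Polynomial.aeval_comp, map_pow, Polynomial.aeval_X, ← map_pow, h1]
    exact hm'
  set q' : (ZMod r)ˣ := -(ZMod.unitOfCoprime q hqr) with hq'
  have hq'v : (q' : ZMod r) = -(q : ZMod r) := by
    rw [hq', Units.val_neg, ZMod.coe_unitOfCoprime]
  have hroot : ∀ lam : E, aeval lam m = 0 → aeval (lam ^ ((r - 1) * q)) m = 0 := by
    intro lam hlam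
    have h1 := Polynomial.aeval_eq_zero_of_dvd_aeval_eq_zero hdvd hlam
    rw [Polynomial.aeval_comp, map_pow, Polynomial.aeval_X] at h1
    have h2 := congrArg τ h1
    rw [map_zero, aeval_def, hom_eval₂] at h2
    have h3 : τ.comp (algebraMap F E) = (algebraMap F E).comp σ := by
      ext c
      rw [RingHom.comp_apply, RingHom.comp_apply, hτa, hσa, map_pow]
    rw [h3, ← eval₂_map, Polynomial.map_map, hσσ, Polynomial.map_id, hτa, ← pow_mul, ← aeval_def] at h2
    exact h2
  have hJq1 : ∀ u ∈ J, u * q' ∈ J := by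
    intro u hu
    rw [hJmem _ ((u : ZMod r).val * ((r - 1) * q)) (by
      rw [Nat.cast_mul, ZMod.natCast_zmod_val, Units.val_mul, hq'v, Nat.cast_mul, Nat.cast_sub hr.one_le,
        ZMod.natCast_self, Nat.cast_one, zero_sub, neg_one_mul])]
    rw [pow_mul]
    exact hroot _ hu
  have hJq : ∀ u ∈ J, ∀ w ∈ zpowers q', u * w ∈ J := by
    intro u hu w hw
    obtain ⟨n, hn⟩ := (isOfFinOrder_of_finite q').mem_powers_iff_mem_zpowers.2 hw
    have hn' : q' ^ n = w := hn
    rw [← hn']
    clear hn hn' hw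
    induction n with
    | zero => simpa using hu
    | succ n ih =>
      rw [pow_succ, ← mul_assoc]
      exact hJq1 _ ih
  have hclosed : ∀ H : Subgroup (ZMod r)ˣ, (∀ u ∈ J, ∀ w ∈ H, u * w ∈ J) → Nat.card H ∣ Nat.card J := by
    intro H hH
    have h1 : J * (H : Set (ZMod r)ˣ) = J := by
      apply Set.Subset.antisymm
      · rintro _ ⟨u, hu, w, hw, rfl⟩
        exact hH u hu w hw
      · intro u hu
        exact ⟨u, hu, 1, H.one_mem, mul_one u⟩
    have h2 := Subgroup.card_mul_eq_card_subgroup_mul_card_quotient H J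
    rw [h1] at h2
    exact Dvd.intro _ h2.symm
  have h1J : (1 : (ZMod r)ˣ) ∈ J := by
    rw [hJmem 1 1 (by simp), pow_one]
    exact hζ
  have hJfin : Finite J := inferInstance
  have hJpos : 0 < Nat.card J := by
    have : Nonempty J := ⟨⟨1, h1J⟩⟩
    exact Nat.card_pos
  have hJm : Nat.card J ≤ m.natDegree := by
    have hfr : Finite (m.rootSet E) := (Polynomial.rootSet_finite m E).to_subtype
    have hmr : ∀ u : J, ζ ^ ((u : (ZMod r)ˣ) : ZMod r).val ∈ m.rootSet E := by
      intro u
      rw [Polynomial.mem_rootSet]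
      exact ⟨minpoly.ne_zero hint, u.2⟩
    have hinj : Function.Injective (fun u : J => (⟨ζ ^ ((u : (ZMod r)ˣ) : ZMod r).val, hmr u⟩ : m.rootSet E)) := by
      intro u w huw
      have h1 : ζ ^ ((u : (ZMod r)ˣ) : ZMod r).val = ζ ^ ((w : (ZMod r)ˣ) : ZMod r).val := congrArg Subtype.val huw
      rw [hζpow, ← ZMod.natCast_eq_natCast_iff, ZMod.natCast_zmod_val, ZMod.natCast_zmod_val] at h1
      exact Subtype.ext (Units.ext h1)
    have h1 : Nat.card J ≤ Nat.card (m.rootSet E) := Nat.card_le_card_of_injective _ hinj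
    refine h1.trans ?_
    rw [Nat.card_coe_set_eq]
    exact Polynomial.ncard_rootSet_le m E
  have hmV : m.natDegree ≤ Module.finrank F V := by
    have h4 : m ∣ (ρ y).charpoly := LinearMap.minpoly_dvd_charpoly (ρ y)
    rw [← LinearMap.charpoly_natDegree (ρ y)]
    exact Polynomial.natDegree_le_of_dvd h4 (LinearMap.charpoly_monic (ρ y)).ne_zero
  have hVJ : Module.finrank F V ≤ Nat.card J := by
    have h1 : orderOf (-(q : ZMod r)) = Nat.card (zpowers q') := by
      rw [Nat.card_zpowers, ← orderOf_units, hq'v]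
    rw [← hord, h1]
    exact Nat.le_of_dvd hJpos (hclosed _ hJq)
  have hJV : Nat.card J = Module.finrank F V := le_antisymm (hJm.trans hmV) hVJ
  obtain ⟨v, hv⟩ := exists_cyc (ρ y) (hVJ.trans hJm)
  have hcm : ∀ x : K, Commute y x → ∃ P : F[X], ρ x = aeval (ρ y) P := by
    intro x hx
    apply exists_poly hv
    have h1 : ρ (x * y) = ρ (y * x) := by rw [hx.eq]
    rw [map_mul, map_mul] at h1
    exact h1
  refine ⟨?_, ?_, ?_⟩
  · intro hpd
    obtain ⟨g, hg⟩ := exists_prime_orderOf_dvd_card' (G := Subgroup.centralizer ({y} : Set K)) p hpd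
    have hg1 : Commute y (g : K) := (mem_centralizer_singleton_iff.1 g.2).symm
    obtain ⟨P, hP⟩ := hcm g hg1
    have hsep : m.Separable := by
      refine Separable.of_dvd ?_ hmX
      rw [X_pow_sub_one_separable_iff]
      intro h0
      rw [CharP.cast_eq_zero_iff F p] at h0
      exact hrp ((Nat.prime_dvd_prime_iff_eq hp hr).1 h0).symm
    have hsq : Squarefree m := hsep.squarefree
    have h1 : m ∣ (P - 1) ^ p := by
      apply minpoly.dvd
      have hgp : ((g : K)) ^ p = 1 := by
        rw [← Subgroup.coe_pow, ← hg, pow_orderOf_eq_one, Subgroup.coe_one]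
      rw [sub_pow_char, one_pow, map_sub, map_pow, map_one, ← hP, ← map_pow, hgp, map_one, sub_self]
    have h2 : m ∣ P - 1 := (hsq.dvd_pow_iff_dvd hp.ne_zero).1 h1
    have h3 : ρ (g : K) = 1 := by
      obtain ⟨Q, hQ⟩ := h2
      have h4 : P = m * Q + 1 := by rw [← hQ]; ring
      rw [hP, h4, map_add, map_mul, hm, minpoly.aeval, zero_mul, zero_add, map_one]
    have h5 : (g : K) = 1 := hinj (by rw [h3, map_one])
    have h6 : g = 1 := Subtype.ext h5
    rw [h6, orderOf_one] at hg
    exact hp.one_lt.ne hg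
  · rw [← hJV, ← hRc]
    exact hclosed R hJR
  · intro x w hx hw
    obtain ⟨P, hP⟩ := hcm x hx
    obtain ⟨Q, hQ⟩ := hcm w hw
    have h1 : ρ (x * w) = ρ (w * x) := by
      rw [map_mul, map_mul, hP, hQ, ← map_mul, ← map_mul, mul_comm]
    exact hinj h1

end Cfsg.Agent.H899.Rg
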